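import Cfsg.Agent.H434.Rl.FourA
import Cfsg.Agent.H592.Rl.Classes9
import Cfsg.Agent.H803.Rl.UNot
import Cfsg.Agent.H294.Rl.Size
import Cfsg.Agent.H813.Rl.ExtSq
import Cfsg.Agent.H74.PslF
import Cfsg.Agent.H788.Rl.Tab

/-!
# S3691, PSL-14: `PSL_4(q)` (helper434)

* `point_pt` : if `pg Y` fixes `⟨v⟩` and `pg X` consists of similarities or semilinear maps over `q²`, then `Pt (pg Y) v`
* `red_four` : one factor fixes a point and induces at least `SL_3(q)` (after a change of the identification)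
-/

set_option autoImplicit false
set_option linter.unusedSectionVars false

namespace Cfsg.Agent.H434.Rl

open Cfsg Cfsg.Geo Matrix Module Cfsg.Agent.H728.DghpNum Cfsg.Agent.H454.Reg Cfsg.Agent.H304.Ppd Cfsg.Agent.H851.Rl
open scoped MatrixGroups

universe u

section num

theorem pow_gt : ∀ f : ℕ, 7 ≤ f → 12 * f < 2 ^ f := by
  intro f hf
  induction f, hf using Nat.le_induction with
  | base => norm_num
  | succ n hn ih =>
    rw [pow_succ]
    omega

theorem twelve {p f q : ℕ} (hp : 2 ≤ p) (hF : q = p ^ f) (hq : 121 < q) : 12 * f < q := by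
  rcases Nat.lt_or_ge f 7 with h | h
  · omega
  · have h1 := pow_gt f h
    have h2 : 2 ^ f ≤ p ^ f := Nat.pow_le_pow_left hp f
    omega

theorem le_index {q : ℕ} (hq : 2 ≤ q) {B : ℕ} (h : B < q ^ 3) : B < (q ^ 4 - 1) / (q - 1) := by
  have h1 : q ^ 3 ≤ (q ^ 4 - 1) / (q - 1) := by
    rw [Nat.le_div_iff_mul_le (by omega)]
    obtain ⟨x, rfl⟩ : ∃ x, q = x + 1 := ⟨q - 1, by omega⟩
    rw [Nat.add_sub_cancel]
    have e1 : (x + 1) ^ 4 = (x + 1) ^ 3 * x + (x + 1) ^ 3 := by ring
    have h2 : 1 ≤ (x + 1) ^ 3 := Nat.one_le_pow _ _ (by omega)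
    omega
  omega

end num

section gl

variable {F : Type} [Field F] [Fintype F] {n : ℕ}

theorem exists_order {R : Subgroup (GL (Fin n) F)} {r : ℕ} (hr : r.Prime) (h : r ∣ Nat.card R) :
    ∃ x ∈ R, orderOf x = r := by
  have := Fact.mk hr
  have hfin : Finite (GL (Fin n) F) := inferInstance
  obtain ⟨x, hx⟩ := exists_prime_orderOf_dvd_card' r h
  exact ⟨x, x.2, by rw [Subgroup.orderOf_coe, hx]⟩

/-- a large subgroup of `SL_n(q)` is `SL_n(q)` -/
theorem sl_le_of_card (hn : 3 ≤ n) (hexc : ¬ (n = 4 ∧ Fintype.card F = 2)) {R : Subgroup (GL (Fin n) F)} {B : ℕ}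
    (hR : R ≤ specialLinear (Fin n) F) (hB : Nat.card (specialLinear (Fin n) F) ≤ B * Nat.card R)
    (h : B < (Fintype.card F ^ n - 1) / (Fintype.card F - 1)) : specialLinear (Fin n) F ≤ R := by
  have hfin : Finite (GL (Fin n) F) := inferInstance
  have h1 : R.comap (Matrix.SpecialLinearGroup.toGL (n := Fin n) (R := F)) = ⊤ := by
    by_contra hcon
    have h2 := Cfsg.Agent.H74.Psl.min_index rfl hn hexc _ hcon
    rw [Subgroup.index_comap, H304.PslT.range_toGL] at h2
    have h3 := (R.subgroupOf (specialLinear (Fin n) F)).card_mul_index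
    rw [Nat.card_congr (Subgroup.subgroupOfEquivOfLe hR).toEquiv] at h3
    have h4 : Nat.card R * (R.subgroupOf (specialLinear (Fin n) F)).index ≤ Nat.card R * B := by
      rw [h3, mul_comm]; exact hB
    have h5 := Nat.le_of_mul_le_mul_left h4 Nat.card_pos
    have h6 : R.relIndex (specialLinear (Fin n) F) = (R.subgroupOf (specialLinear (Fin n) F)).index := rfl
    omega
  rw [← H304.PslT.range_toGL]
  rintro _ ⟨x, rfl⟩
  have h4 : x ∈ R.comap (Matrix.SpecialLinearGroup.toGL (n := Fin n) (R := F)) := by rw [h1]; exact Subgroup.mem_top x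
  exact h4

/-- the determinant -/
theorem card_inf_sl (R : Subgroup (GL (Fin n) F)) :
    ∃ d, d ∣ Fintype.card F - 1 ∧ Nat.card R = d * Nat.card (R ⊓ specialLinear (Fin n) F : Subgroup (GL (Fin n) F)) := by
  have hfin : Finite (GL (Fin n) F) := inferInstance
  have h1 := ((specialLinear (Fin n) F).subgroupOf R).index_mul_card
  have h2 : Nat.card ((specialLinear (Fin n) F).subgroupOf R) =
      Nat.card (R ⊓ specialLinear (Fin n) F : Subgroup (GL (Fin n) F)) := by
    rw [← Subgroup.inf_subgroupOf_left, Nat.card_congr (Subgroup.subgroupOfEquivOfLe inf_le_left).toEquiv]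
  refine ⟨((specialLinear (Fin n) F).subgroupOf R).index, ?_, by rw [← h2, h1]⟩
  have h3 : ((specialLinear (Fin n) F).subgroupOf R).index =
      Nat.card (R.map (Matrix.GeneralLinearGroup.det : GL (Fin n) F →* Fˣ)) := by
    have h4 := Subgroup.relIndex_ker (Matrix.GeneralLinearGroup.det : GL (Fin n) F →* Fˣ) (K := R)
    exact h4
  rw [h3, ← Nat.card_eq_fintype_card (α := F), ← Nat.card_units]
  exact Subgroup.card_subgroup_dvd_card _

end gl

section out

variable {F : Type} [Field F] [Fintype F]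

/-- a primitive prime of degree `3` does not divide the orders of the upper bounds -/
theorem no3 {R : Subgroup (GL (Fin 4) F)} {u : ℕ} (hu : Ppd (Fintype.card F) 3 u) (hout : H851.Rl.Out 4 R) :
    ¬ u ∣ Nat.card R := by
  intro hd
  obtain ⟨x, hxR, hx⟩ := exists_order hu.prime hd
  rcases hout with ⟨s, K, hs, h3, -, hK, h1⟩ | ⟨-, -, f, hf, h1⟩ | ⟨-, Q, hQ, h1⟩ | ⟨h1, -⟩
  · rw [Fintype.card_fin] at h3
    have hs2 : s = 2 := (Nat.prime_dvd_prime_iff_eq hs Nat.prime_two).1
      (hs.dvd_of_dvd_pow (show s ∣ 2 ^ 2 by norm_num; exact h3))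
    subst hs2
    have hFd : ¬ u ∣ Nat.card F := by rw [Nat.card_eq_fintype_card]; exact hu.ndvd
    have hlt := hu.lt
    rcases H251.GeoCard.extension hs hK hu.prime hFd (hd.trans (Subgroup.card_dvd_of_le h1)) with h5 | ⟨i, h5, h6, h8⟩
    · omega
    · rw [Nat.card_eq_fintype_card, ← pow_mul, hu.dvd_iff] at h8
      rw [Fintype.card_fin] at h6
      omega
  · exact absurd (even_of_bilinear hu (by norm_num) (by rw [Fintype.card_fin]; norm_num) hx hf.bilinear hf.nondegenerate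
      (h1 hxR)) (by decide)
  · exact absurd (even_of_quadratic hu (by norm_num) (by rw [Fintype.card_fin]; norm_num) hx hQ (h1 hxR)) (by decide)
  · exact absurd h1 (by decide)

end out

section res

variable {F : Type} [Field F] [Fintype F]

/-- residual groups, `n = 3` -/
theorem res3 {p f u : ℕ} (hp : p.Prime) (hF : Fintype.card F = p ^ f) (hu : Ppd p (f * 3) u)
    {H : Subgroup (GL (Fin 3) F)} (hH : IsMaximalIn (specialLinear (Fin 3) F) H) (hres : InLinearResidualClass H)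
    (hud : u ∣ Nat.card H) : Nat.card H ≤ 4320 :=
  (Cfsg.Agent.H788.Rl.res_tab (n := 3) (k := 3) le_rfl (by norm_num) hH hres (by norm_num) le_rfl hu.prime hp hF hu.ord
    hud (fun h => absurd h (by norm_num))).1

/-- residual groups, `n = 4` -/
theorem res4 {p f u k : ℕ} (hk : 4 ≤ k + 1) (hk4 : k ≤ 4) (hp : p.Prime) (hF : Fintype.card F = p ^ f)
    (hu : Ppd p (f * k) u) {H : Subgroup (GL (Fin 4) F)} (hH : IsMaximalIn (specialLinear (Fin 4) F) H)
    (hres : InLinearResidualClass H) (hud : u ∣ Nat.card H) : Nat.card H ≤ 207360 ∧ f = 1 := by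
  obtain ⟨h1, h2, -⟩ := Cfsg.Agent.H788.Rl.res_tab (n := 4) (k := k) (by norm_num) (by norm_num) hH hres hk hk4
    hu.prime hp hF hu.ord hud (fun _ => Or.inl (by
      rintro rfl
      exact absurd hu.prime (by norm_num)))
  exact ⟨h1, h2 (by norm_num)⟩

theorem lt1 {q f : ℕ} (hf : 12 * f < q) (hq : 121 < q) : 2 * f * 46080 < q ^ 3 := by
  have h1 : 121 * 121 ≤ q * q := Nat.mul_le_mul hq.le hq.le
  calc 2 * f * 46080 = 12 * f * 7680 := by ring
    _ ≤ q * 7680 := Nat.mul_le_mul_right _ hf.le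
    _ < q * (q * q) := Nat.mul_lt_mul_of_pos_left (by omega) (by omega)
    _ = q ^ 3 := by ring

theorem lt2 {q f : ℕ} (hf : f = 1) (hq : 121 < q) : 2 * f * 207360 < q ^ 3 := by
  have h1 : 121 ^ 3 ≤ q ^ 3 := Nat.pow_le_pow_left hq.le 3
  omega

end res

section fac

variable {F : Type} [Field F] [Fintype F] {G : Type u} [Group G] [Finite G] {T X Y : Subgroup G}

/-- no factor is small -/
theorem kill_small (h : Fac T X Y) (e : T ≃* Matrix.ProjectiveSpecialLinearGroup (Fin 4) F)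
    (hq : 121 < Fintype.card F) {p f B : ℕ} (hp : p.Prime) (hF : Fintype.card F = p ^ f)
    (hX : Nat.card (pg e X) ≤ B) (hB : 2 * f * B < Fintype.card F ^ 3) : False := by
  have h1 := H815.Rl.card_le_pg h (by norm_num) e hp hF
  apply not_sl_le e h.not_le_right
  refine sl_le_of_card (B := 2 * f * B) (by norm_num) (by omega) (pg_le e Y) (h1.trans ?_)
    (le_index (by omega) hB)
  exact Nat.mul_le_mul_right _ (Nat.mul_le_mul_left _ hX)

/-- no factor of order divisible by all primitive primes of degree `3` is unitary -/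
theorem no_uni (h : Fac T X Y) (e : T ≃* Matrix.ProjectiveSpecialLinearGroup (Fin 4) F)
    (hq : 121 < Fintype.card F) (hX : H851.Rl.Out 4 (pg e X)) {m : ℕ} (hm : 2 ≤ m) (hm6 : m < 6)
    {S : Subgroup (GL (Fin m) F)} (hS : ∀ r : ℕ, Ppd (Fintype.card F) 3 r → r ∣ Nat.card (pg e Y) → r ∣ Nat.card S)
    {σ : F ≃+* F} {g : (Fin m → F) → (Fin m → F) → F} (hg : IsUnitaryForm σ g) (hSg : S ≤ similarityGroup g) :
    False := by
  obtain ⟨p, k, hp, -, hF, -⟩ := exists_frobenius hg.ne_refl hg.involutive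
  have hF' : Fintype.card F = p ^ (2 * k) := by rw [hF, ← pow_mul, mul_comm]
  have hfin : Finite (GL (Fin m) F) := inferInstance
  obtain ⟨r, hr, hord, hr3, hside⟩ := H851.Rl.kill h (by norm_num) e (k := 3) hp hF' (by norm_num) (by norm_num)
    (by decide) (by
      rintro ⟨rfl, h0⟩
      have h1 : k = 2 := by omega
      rw [hF', h1] at hq
      omega)
  have hrY : r ∣ Nat.card (pg e Y) := hside.resolve_left (no3 hr3 hX)
  exact H803.Rl.u_not2 hg hF hr hord (by decide) (by rw [Fintype.card_fin]; omega) (by rw [Fintype.card_fin]; omega)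
      ((hS r hr3 hrY).trans (Subgroup.card_dvd_of_le hSg))

/-- the block of the factor which fixes a point -/
theorem block_le (h : Fac T X Y) (e : T ≃* Matrix.ProjectiveSpecialLinearGroup (Fin 4) F)
    (hq : 121 < Fintype.card F) {p f : ℕ} (hp : p.Prime) (hF : Fintype.card F = p ^ f)
    (hX : H851.Rl.Out 4 (pg e X)) {u : ℕ} (hu : Ppd p (f * 3) u) (hud : u ∣ Nat.card (pg e Y)) {v : Fin 4 → F}
    (hv : v ≠ 0) (hfix : ∀ x ∈ pg e Y, ∃ c : F, (x : Matrix (Fin 4) (Fin 4) F) *ᵥ v = c • v)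
    (hno : ¬ Pt (pg e Y) v) :
    Nat.card (pg e Y) ≤ 3 * Fintype.card F ^ 6 ∧ (NoU (pg e Y) v → Nat.card (pg e Y) ≤ 3 * Fintype.card F ^ 3) := by
  have hfin : Finite (GL (Fin 3) F) := inferInstance
  have hfin4 : Finite (GL (Fin 4) F) := inferInstance
  obtain ⟨φ, h1, h2, h3⟩ := block' (m := 3) hv (pg_le e Y) hfix
  have hS : ¬ specialLinear (Fin 3) F ≤ φ.range := fun h => hno (h2 h)
  have hcard : Nat.card φ.ker * Nat.card φ.range = Nat.card (pg e Y) := by
    have := φ.ker.card_mul_index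
    rwa [Subgroup.index_ker] at this
  obtain ⟨d, hd, hdc⟩ := card_inf_sl φ.range
  set S : Subgroup (GL (Fin 3) F) := φ.range ⊓ specialLinear (Fin 3) F with hSdef
  have hSS : ¬ specialLinear (Fin 3) F ≤ S := fun h => hS (h.trans inf_le_left)
  -- the primes
  have hdvd : ∀ r : ℕ, Ppd (Fintype.card F) 3 r → r ∣ Nat.card (pg e Y) → r ∣ Nat.card S := by
    intro r hr hrY
    rw [← hcard, hr.prime.dvd_mul] at hrY
    rcases hrY with h4 | h4
    · exact absurd (hr.prime.dvd_of_dvd_pow (h4.trans h1)) hr.ndvd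
    · rw [hdc, hr.prime.dvd_mul] at h4
      rcases h4 with h5 | h5
      · have h6 := (hr.dvd_iff 1).1 (by rw [pow_one]; exact h5.trans hd)
        norm_num at h6
      · exact h5
  have hf : 1 ≤ f := H815.Rl.one_le_of_card hF
  have hu3 : Ppd (Fintype.card F) 3 u := ppd_of hp hf hF hu.prime hu.ord (by norm_num)
  -- the order of the block
  have hb : Nat.card S * (Fintype.card F - 1) ≤ 3 * Fintype.card F ^ 3 := by
    rcases H592.Rl.classes9 (k := 3) (n := 3) le_rfl (by norm_num) (by norm_num) (by norm_num) hp hF hu.prime hu.ord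
      (inf_le_right : S ≤ specialLinear (Fin 3) F) hSS (hdvd u hu3 hud) with
      ⟨h4, -⟩ | h4 | ⟨h4, -⟩ | ⟨h4, -⟩ | ⟨H, hH, hSH, hres⟩
    · omega
    · rcases h4 with ⟨s, K, hs, h4, -, hK, h5⟩ | ⟨h4, -⟩ | ⟨h4, -⟩ | ⟨-, σ, g, hg, h4⟩
      · rw [Fintype.card_fin] at h4
        have h6 := (Nat.prime_dvd_prime_iff_eq hs Nat.prime_three).1 h4
        subst h6
        have h7 := H813.Rl.card_ext_sl hs (by rw [Fintype.card_fin]) hK
        rw [Fintype.card_fin, show 3 ^ 2 / 3 = 3 by norm_num] at h7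
        rw [mul_comm]
        exact (Nat.mul_le_mul_left _ (Subgroup.card_le_of_le (le_inf h5 inf_le_right))).trans h7
      · exact absurd h4 (by decide)
      · exact absurd h4 (by decide)
      · exact (no_uni h e hq hX (by norm_num) (by norm_num) hdvd hg h4).elim
    · omega
    · omega
    · have h4 : Nat.card S ≤ 4320 := (Subgroup.card_le_of_le hSH).trans (res3 hp hF hu hH hres
        ((hdvd u hu3 hud).trans (Subgroup.card_dvd_of_le hSH)))
      calc Nat.card S * (Fintype.card F - 1) ≤ 4320 * Fintype.card F := Nat.mul_le_mul h4 (Nat.sub_le _ _)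
        _ ≤ 3 * Fintype.card F ^ 2 * Fintype.card F := Nat.mul_le_mul_right _ (by nlinarith)
        _ = 3 * Fintype.card F ^ 3 := by ring
  have hb2 : Nat.card φ.range ≤ 3 * Fintype.card F ^ 3 := by
    rw [hdc, mul_comm]
    exact (Nat.mul_le_mul_left _ (Nat.le_of_dvd (by omega) hd)).trans hb
  constructor
  · rw [← hcard]
    calc _ ≤ Fintype.card F ^ 3 * (3 * Fintype.card F ^ 3) :=
          Nat.mul_le_mul (Nat.le_of_dvd (Nat.pow_pos (by omega)) h1) hb2
      _ = 3 * Fintype.card F ^ 6 := by ring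
  · intro hU
    have h5 : φ.ker = ⊥ := by
      rw [eq_bot_iff]
      intro x hx
      rw [Subgroup.mem_bot]
      exact Subtype.ext (hU x.1 x.2 (h3 x (MonoidHom.mem_ker.1 hx)))
    rw [← hcard, h5, Subgroup.card_bot, one_mul]
    exact hb2

/-- the factor which fixes a point induces at least `SL_3(q)` -/
theorem point_pt (h : Fac T X Y) (e : T ≃* Matrix.ProjectiveSpecialLinearGroup (Fin 4) F)
    (hq : 121 < Fintype.card F) {p f : ℕ} (hp : p.Prime) (hF : Fintype.card F = p ^ f)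
    (hX : H851.Rl.Out 4 (pg e X)) {u : ℕ} (hu : Ppd p (f * 3) u) (hud : u ∣ Nat.card (pg e Y)) {v : Fin 4 → F}
    (hv : v ≠ 0) (hfix : ∀ x ∈ pg e Y, ∃ c : F, (x : Matrix (Fin 4) (Fin 4) F) *ᵥ v = c • v) :
    Pt (pg e Y) v := by
  by_contra hno
  have hfin4 : Finite (GL (Fin 4) F) := inferInstance
  obtain ⟨hY, hYU⟩ := block_le h e hq hp hF hX hu hud hv hfix hno
  have hc := H815.Rl.card_le_pg h (by norm_num) e hp hF
  have hsl := H294.Rl.sl_ge (F := F) (n := 4) (by norm_num)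
  have hf := twelve hp.two_le hF hq
  set q := Fintype.card F with hqd
  set x := Nat.card (pg e X) with hx
  set y := Nat.card (pg e Y) with hy
  have hm : q ^ 15 ≤ 4 * f * x * y := by
    calc q ^ 15 = q ^ (4 ^ 2 - 1) := by norm_num
      _ ≤ _ := hsl
      _ ≤ 2 * (2 * f * x * y) := Nat.mul_le_mul_left _ hc
      _ = 4 * f * x * y := by ring
  have hm2 : q ^ 9 ≤ 12 * f * x := by
    refine Nat.le_of_mul_le_mul_left (c := q ^ 6) ?_ (Nat.pow_pos (by omega))
    calc q ^ 6 * q ^ 9 = q ^ 15 := by ring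
      _ ≤ 4 * f * x * y := hm
      _ ≤ 4 * f * x * (3 * q ^ 6) := Nat.mul_le_mul_left _ hY
      _ = q ^ 6 * (12 * f * x) := by ring
  rcases hX with ⟨s, K, hs, h3, -, hK, h1⟩ | ⟨-, -, g, hg, h1⟩ | ⟨-, Q, hQ, h1⟩ | ⟨h1, -⟩
  · -- fields
    rw [Fintype.card_fin] at h3
    have hs2 : s = 2 := (Nat.prime_dvd_prime_iff_eq hs Nat.prime_two).1
      (hs.dvd_of_dvd_pow (show s ∣ 2 ^ 2 by norm_num; exact h3))
    subst hs2
    have h7 := H813.Rl.card_ext_sl hs (by rw [Fintype.card_fin]; norm_num) hK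
    rw [Fintype.card_fin, show 4 ^ 2 / 2 = 8 by norm_num, ← hqd] at h7
    have h8 : (q - 1) * x ≤ 2 * q ^ 8 :=
      (Nat.mul_le_mul_left _ (Subgroup.card_le_of_le (le_inf h1 (pg_le e X)))).trans h7
    have h9 : q ^ 8 * (q * (q - 1)) ≤ q ^ 8 * (24 * f) := by
      calc q ^ 8 * (q * (q - 1)) = q ^ 9 * (q - 1) := by ring
        _ ≤ 12 * f * x * (q - 1) := Nat.mul_le_mul_right _ hm2
        _ = 12 * f * ((q - 1) * x) := by ring
        _ ≤ 12 * f * (2 * q ^ 8) := Nat.mul_le_mul_left _ h8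
        _ = q ^ 8 * (24 * f) := by ring
    have h10 := Nat.le_of_mul_le_mul_left h9 (Nat.pow_pos (by omega))
    have h11 : q * 2 ≤ q * (q - 1) := Nat.mul_le_mul_left _ (by omega)
    omega
  · -- symplectic forms
    have hnou : NoU (pg e Y) v := nou_of_tv h (by norm_num) hv (fn_ne hg hv)
      (fun a => tv_of_card hg h1 (by omega) hm2 hf.le v a)
    have h2 := hYU hnou
    have h4 : x ≤ q ^ 11 := by
      have h5 := (Subgroup.card_le_of_le h1).trans (H951.Rl.card_sim_le hg)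
      rwa [Fintype.card_fin, show 4 * (4 + 1) / 2 + 1 = 11 by norm_num] at h5
    have h5 : q ^ 14 * q ≤ q ^ 14 * (12 * f) := by
      calc q ^ 14 * q = q ^ 15 := by ring
        _ ≤ 4 * f * x * y := hm
        _ ≤ 4 * f * q ^ 11 * (3 * q ^ 3) := Nat.mul_le_mul (Nat.mul_le_mul_left _ h4) h2
        _ = q ^ 14 * (12 * f) := by ring
    have h6 := Nat.le_of_mul_le_mul_left h5 (Nat.pow_pos (by omega))
    omega
  · -- quadratic forms
    have h4 : x ≤ 2 * q ^ 7 := by
      have h5 := (Subgroup.card_le_of_le h1).trans (H951.Rl.card_qsim_le hQ)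
      rwa [Fintype.card_fin, show 4 * (4 - 1) / 2 + 1 = 7 by norm_num] at h5
    have h5 : q ^ 7 * (q * q) ≤ q ^ 7 * (24 * f) := by
      calc q ^ 7 * (q * q) = q ^ 9 := by ring
        _ ≤ 12 * f * x := hm2
        _ ≤ 12 * f * (2 * q ^ 7) := Nat.mul_le_mul_left _ h4
        _ = q ^ 7 * (24 * f) := by ring
    have h6 := Nat.le_of_mul_le_mul_left h5 (Nat.pow_pos (by omega))
    have h11 : q * 2 ≤ q * q := Nat.mul_le_mul_left _ (by omega)
    omega
  · exact absurd h1 (by decide)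

/-- the factor of order divisible by `r_4` -/
theorem side_out (h : Fac T X Y) (e : T ≃* Matrix.ProjectiveSpecialLinearGroup (Fin 4) F)
    (hq : 121 < Fintype.card F) {p f : ℕ} (hp : p.Prime) (hF : Fintype.card F = p ^ f) {r : ℕ} (hr : Ppd p (f * 4) r)
    (hrX : r ∣ Nat.card (pg e X)) : H851.Rl.Out 4 (pg e X) := by
  have hfin4 : Finite (GL (Fin 4) F) := inferInstance
  have hf := twelve hp.two_le hF hq
  rcases H592.Rl.classes9 (k := 4) (n := 4) (by norm_num) (by norm_num) (by norm_num) (by norm_num) hp hF hr.prime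
    hr.ord (pg_le e X) (not_sl_le e h.not_le_left) hrX with ⟨h1, -⟩ | h1 | ⟨h1, -⟩ | ⟨-, h1⟩ | ⟨H, hH, hXH, hres⟩
  · omega
  · exact h1
  · omega
  · exact (kill_small h e hq hp hF h1 (lt1 hf hq)).elim
  · obtain ⟨h1, h2⟩ := res4 (by norm_num) le_rfl hp hF hr hH hres (hrX.trans (Subgroup.card_dvd_of_le hXH))
    exact (kill_small h e hq hp hF ((Subgroup.card_le_of_le hXH).trans h1) (lt2 h2 hq)).elim

/-- one side -/
theorem red_side (h : Fac T X Y) (e : T ≃* Matrix.ProjectiveSpecialLinearGroup (Fin 4) F)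
    (hq : 121 < Fintype.card F) {p f : ℕ} (hp : p.Prime) (hF : Fintype.card F = p ^ f) {r : ℕ} (hr : Ppd p (f * 4) r)
    (hrX : r ∣ Nat.card (pg e X)) :
    ∃ (e' : T ≃* Matrix.ProjectiveSpecialLinearGroup (Fin 4) F) (v : Fin 4 → F), Pt (pg e' Y) v := by
  have hfin4 : Finite (GL (Fin 4) F) := inferInstance
  have hf := twelve hp.two_le hF hq
  have hf1 : 1 ≤ f := H815.Rl.one_le_of_card hF
  have hX := side_out h e hq hp hF hr hrX
  -- the prime of degree `3`
  obtain ⟨u, hu⟩ := exists_ppd (q := p) (e := f * 3) hp.two_le (by omega) (by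
    rintro ⟨h1, h2⟩
    have h3 : f = 2 := by omega
    rw [hF, h1, h3] at hq
    omega)
  have hu3 : Ppd (Fintype.card F) 3 u := ppd_of hp hf1 hF hu.prime hu.ord (by norm_num)
  have hlt := hu.lt
  have huf : ¬ u ∣ 2 * f := fun hd => by
    have := Nat.le_of_dvd (by omega) hd
    omega
  have hv : u ∣ u ^ (Fintype.card F ^ 3 - 1).factorization u := by
    apply dvd_pow_self
    have h3 : u ∣ Fintype.card F ^ 3 - 1 := (hu3.dvd_iff 3).2 dvd_rfl
    have h4 : Fintype.card F ^ 3 - 1 ≠ 0 := by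
      have : 2 ^ 3 ≤ Fintype.card F ^ 3 := Nat.pow_le_pow_left (by omega) 3
      omega
    exact (hu.prime.factorization_pos_of_dvd h4 h3).ne'
  have huY : u ∣ Nat.card (pg e Y) := by
    rcases H815.Rl.side h (by norm_num) e hp hF hu.prime hu3.ord (by norm_num) (by norm_num) huf with h3 | h3
    · exact absurd (hv.trans h3.1) (no3 hu3 hX)
    · exact hv.trans h3.1
  rcases H592.Rl.classes9 (k := 3) (n := 4) (by norm_num) (by norm_num) (by norm_num) (by norm_num) hp hF hu.prime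
    hu.ord (pg_le e Y) (not_sl_le e h.not_le_right) huY with ⟨-, W, hW, h1⟩ | h1 | ⟨-, h1, -⟩ | ⟨-, h1⟩ |
    ⟨H, hH, hYH, hres⟩
  · obtain ⟨e', v, hv0, hfix, hcard⟩ := point_of (by norm_num) e Y hW h1
    have hX' := side_out h e' hq hp hF hr (by rw [hcard]; exact hrX)
    exact ⟨e', v, point_pt h e' hq hp hF hX' hu (by rw [hcard]; exact huY) hv0 hfix⟩
  · rcases h1 with ⟨s, K, hs, h3, h2, -, -⟩ | ⟨h3, -⟩ | ⟨h3, -⟩ | ⟨-, σ, g, hg, h3⟩
    · rw [Fintype.card_fin] at h3
      have hs2 : s = 2 := (Nat.prime_dvd_prime_iff_eq hs Nat.prime_two).1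
        (hs.dvd_of_dvd_pow (show s ∣ 2 ^ 2 by norm_num; exact h3))
      rw [hs2] at h2
      omega
    · exact absurd h3 (by decide)
    · exact absurd h3 (by decide)
    · exact (no_uni h e hq hX (by norm_num) (by norm_num) (fun _ _ h => h) hg h3).elim
  · rw [h1] at hu
    exact absurd hu.prime (by norm_num)
  · exact (kill_small h.symm e hq hp hF h1 (lt1 hf hq)).elim
  · obtain ⟨h1, h2⟩ := res4 (by norm_num) (by norm_num) hp hF hu hH hres (huY.trans (Subgroup.card_dvd_of_le hYH))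
    exact (kill_small h.symm e hq hp hF ((Subgroup.card_le_of_le hYH).trans h1) (lt2 h2 hq)).elim

/-- **PSL-14** -/
theorem red_four {X Y : Subgroup G} (h : Fac T X Y) (e : T ≃* Matrix.ProjectiveSpecialLinearGroup (Fin 4) F) :
    ∃ (e' : T ≃* Matrix.ProjectiveSpecialLinearGroup (Fin 4) F) (v : Fin 4 → F), Pt (pg e' X) v ∨ Pt (pg e' Y) v := by
  have hq : 121 < Fintype.card F := (H294.Rl.q_ge h (by norm_num) e).2.1 rfl
  obtain ⟨p, hchar⟩ := CharP.exists F
  have hp : p.Prime := CharP.char_is_prime F p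
  obtain ⟨f, -, hF⟩ := FiniteField.card F p
  have hf : 1 ≤ (f : ℕ) := f.2
  obtain ⟨r, hr⟩ := exists_ppd (q := p) (e := f * 4) hp.two_le (by omega) (by omega)
  have hr4 : Ppd (Fintype.card F) 4 r := ppd_of hp hf hF hr.prime hr.ord (by norm_num)
  have hlt := hr.lt
  have hrf : ¬ r ∣ 2 * (f : ℕ) := fun hd => by
    have := Nat.le_of_dvd (by omega) hd
    omega
  have hv : r ∣ r ^ (Fintype.card F ^ 4 - 1).factorization r := by
    apply dvd_pow_self
    have h3 : r ∣ Fintype.card F ^ 4 - 1 := (hr4.dvd_iff 4).2 dvd_rfl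
    have h4 : Fintype.card F ^ 4 - 1 ≠ 0 := by
      have : 2 ^ 4 ≤ Fintype.card F ^ 4 := Nat.pow_le_pow_left (by omega) 4
      omega
    exact (hr.prime.factorization_pos_of_dvd h4 h3).ne'
  rcases H815.Rl.side h (by norm_num) e hp hF hr.prime hr4.ord (by norm_num) le_rfl hrf with h3 | h3
  · obtain ⟨e', v, h4⟩ := red_side h e hq hp hF hr (hv.trans h3.1)
    exact ⟨e', v, Or.inr h4⟩
  · obtain ⟨e', v, h4⟩ := red_side h.symm e hq hp hF hr (hv.trans h3.1)
    exact ⟨e', v, Or.inl h4⟩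

end fac

end Cfsg.Agent.H434.Rl
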